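import Cfsg.Agent.Linear.Mult.Killed

/-!
A bound for the kernels of stem extensions: if the only obstruction at the prime 2 is the
commutator of the lifts of a commuting pair whose first member is an involution, the kernels have
order at most two, and so a stem extension with nontrivial kernel gives the multiplier.
-/

set_option autoImplicit false

namespace Cfsg.Agent.H40.Ru

open Subgroup Cfsg.Agent.Linear.Mult
open scoped commutatorElement

universe u

/-- The kernel of a stem extension has order at most two. -/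
theorem card_ker_le_two {G : Type u} [Group G] [Finite G] (hodd : ∀ l, l.Prime → l ≠ 2 → NoStem l G)
    {a b : G} (ha : a * a = 1) (hab : Commute a b)
    (htwo : ∀ (Γ : Type u) [Group Γ] [Finite Γ] (E : LExt 2 Γ G), E.cm a b = 1 →
      ∃ H : Subgroup G, E.Killed H ∧ ¬ 2 ∣ H.index)
    {Γ : Type u} [Group Γ] [Finite Γ] (σ : Γ →* G) (hσ : Cfsg.IsStemExtension σ) :
    Nat.card σ.ker ≤ 2 := by
  let D : CExtData Γ G := ⟨σ, hσ.1, hσ.2.1⟩
  have hzk : D.cm a b ∈ σ.ker := by
    show D.proj (D.cm a b) = 1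
    rw [D.proj_cm, commutatorElement_eq_one_iff_commute.2 hab]
  let z : σ.ker := ⟨D.cm a b, hzk⟩
  have hz : z ^ 2 = 1 := Subtype.ext (by
    show D.cm a b ^ 2 = 1
    rw [pow_two, ← D.cm_mul_left_of_commute hab, ha, D.cm_one_left])
  suffices htop : zpowers z = ⊤ by
    rw [← Subgroup.card_top, ← htop, Nat.card_zpowers]
    exact Nat.le_of_dvd (by norm_num) (orderOf_dvd_of_pow_eq_one hz)
  by_contra hne
  obtain ⟨M, hM, hzM⟩ := (eq_top_or_exists_le_coatom (zpowers z)).resolve_left hne
  have hcomm : ∀ x y : σ.ker, x * y = y * x := fun x y =>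
    Subtype.ext (mem_center_iff.1 (hσ.2.1 y.2) x.1)
  have hMn : M.Normal := ⟨fun m hm g => by rw [hcomm g m, mul_inv_cancel_right]; exact hm⟩
  let N : Subgroup Γ := M.map σ.ker.subtype
  have hNker : N ≤ σ.ker := map_subtype_le M
  have hN : N.Normal :=
    ⟨fun x hx g => by rw [mem_center_iff.1 (hσ.2.1 (hNker hx)) g, mul_inv_cancel_right]; exact hx⟩
  let τ := QuotientGroup.lift N σ hNker
  have hτ : Cfsg.IsStemExtension τ := by
    refine ⟨fun g => ?_, ?_, ?_⟩
    · obtain ⟨x, hx⟩ := hσ.1 g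
      exact ⟨QuotientGroup.mk x, hx⟩
    · intro y hy
      obtain ⟨x, rfl⟩ := QuotientGroup.mk_surjective y
      rw [mem_center_iff]
      intro y'
      obtain ⟨x', rfl⟩ := QuotientGroup.mk_surjective y'
      exact congrArg (QuotientGroup.mk' N) (mem_center_iff.1 (hσ.2.1 hy) x')
    · intro y hy
      obtain ⟨x, rfl⟩ := QuotientGroup.mk_surjective y
      rw [_root_.commutator_def,
        ← map_top_of_surjective (QuotientGroup.mk' N) (QuotientGroup.mk'_surjective N),
        ← map_commutator, ← _root_.commutator_def]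
      exact mem_map_of_mem _ (hσ.2.2 hy)
  let θ : σ.ker →* τ.ker :=
    ((QuotientGroup.mk' N).comp σ.ker.subtype).codRestrict τ.ker fun x => x.2
  have hθ : Function.Surjective θ := fun y => by
    obtain ⟨x, hx⟩ := QuotientGroup.mk_surjective (y : Γ ⧸ N)
    exact ⟨⟨x, by have := y.2; rwa [← hx] at this⟩, Subtype.ext hx⟩
  have hθk : θ.ker = M := by
    ext x
    rw [MonoidHom.mem_ker, ← OneMemClass.coe_eq_one]
    show QuotientGroup.mk' N (x : Γ) = 1 ↔ _
    rw [← MonoidHom.mem_ker, QuotientGroup.ker_mk']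
    exact mem_map_iff_mem σ.ker.subtype_injective
  let _ : CommGroup τ.ker := { (inferInstance : Group τ.ker) with
    mul_comm := fun x y => Subtype.ext (mem_center_iff.1 (hτ.2.1 y.2) x.1) }
  haveI : IsSimpleGroup τ.ker := by
    haveI : Nontrivial τ.ker := by
      rw [← Finite.one_lt_card_iff_nontrivial, ← Subgroup.card_top (G := τ.ker),
        ← MonoidHom.range_eq_top.2 hθ, ← Subgroup.index_ker, hθk]
      exact Subgroup.one_lt_index_of_ne_top hM.1
    refine ⟨fun H _ => ?_⟩
    have hMH : M ≤ H.comap θ := hθk ▸ ker_le_comap θ H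
    rcases (hM.le_iff).1 hMH with h' | h'
    · right
      rw [← comap_top θ] at h'
      exact comap_injective hθ h'
    · left
      rw [← map_comap_eq_self_of_surjective hθ H, h', ← hθk]
      exact (Subgroup.map_eq_bot_iff _).2 le_rfl
  have hl : (Nat.card τ.ker).Prime := IsSimpleGroup.prime_card
  by_cases h2 : Nat.card τ.ker = 2
  · let E : LExt 2 (Γ ⧸ N) G := ⟨⟨τ, hτ.1, hτ.2.1⟩, Nat.prime_two, h2⟩
    have hcm : E.cm a b = 1 := by
      rw [← E.cm_eq (a := QuotientGroup.mk' N (D.lift a)) (b := QuotientGroup.mk' N (D.lift b))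
        (D.proj_lift a) (D.proj_lift b), ← map_commutatorElement]
      exact (QuotientGroup.eq_one_iff _).2 ⟨z, hzM (mem_zpowers z), rfl⟩
    obtain ⟨H, hH, hidx⟩ := htwo _ E hcm
    haveI := Fact.mk Nat.prime_two
    obtain ⟨y, hy⟩ := exists_prime_orderOf_dvd_card' (G := τ.ker) 2 (by rw [h2])
    obtain ⟨hyH, hyc⟩ := H50.mem_commutator_comap hτ (p := 2) H
      (Nat.prime_two.coprime_iff_not_dvd.2 hidx) y y.2
      (by rw [← SubgroupClass.coe_pow, ← hy, pow_orderOf_eq_one]; rfl)
    have h1 : (y : Γ ⧸ N) ∈ ⁅H.comap τ, H.comap τ⁆ :=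
      (mem_commutator_iff_of (⟨(y : Γ ⧸ N), hyH⟩ : H.comap τ)).2 (by
        rw [← MonoidHom.mem_ker, Abelianization.ker_of]; exact hyc)
    have h3 := hH y h1 y.2
    rw [show y = 1 from Subtype.ext h3, orderOf_one] at hy
    norm_num at hy
  · exact hodd _ hl h2 (Γ ⧸ N) τ hτ rfl

/-- A bound of two and one stem extension with nontrivial kernel give the multiplier. -/
theorem hasCyclicSchurMultiplier_two {G : Type u} [Group G]
    (hle : ∀ (Γ : Type u) [Group Γ] [Finite Γ] (σ : Γ →* G), Cfsg.IsStemExtension σ →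
      Nat.card σ.ker ≤ 2)
    {Δ : Type u} [Group Δ] [Finite Δ] (τ : Δ →* G) (hτ : Cfsg.IsStemExtension τ)
    (hne : τ.ker ≠ ⊥) : Cfsg.HasCyclicSchurMultiplier G 2 := by
  have hc : Nat.card (Multiplicative (ZMod 2)) = 2 :=
    (Nat.card_congr Multiplicative.toAdd).trans (Nat.card_zmod 2)
  have hτ2 : Nat.card τ.ker = 2 := by
    refine le_antisymm (hle Δ τ hτ) ?_
    exact Finite.one_lt_card_iff_nontrivial.2 ((Subgroup.nontrivial_iff_ne_bot _).2 hne)
  haveI : Fact (Nat.Prime 2) := ⟨Nat.prime_two⟩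
  refine ⟨⟨Δ, inferInstance, inferInstance, τ, hτ, ⟨?_⟩⟩, fun Γ _ _ σ hσ => ?_⟩
  · haveI := isCyclic_of_prime_card hτ2
    exact mulEquivOfCyclicCardEq (by rw [hτ2, hc])
  · rcases Nat.lt_or_ge (Nat.card σ.ker) 2 with h | h
    · have := (Nat.card_eq_one_iff_unique.1 (show Nat.card σ.ker = 1 by
        have := Nat.card_pos (α := σ.ker); omega)).1
      exact ⟨1, fun x => ⟨1, Subsingleton.elim _ _⟩⟩
    · have h2 : Nat.card σ.ker = 2 := le_antisymm (hle Γ σ hσ) h
      haveI := isCyclic_of_prime_card h2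
      let e : Multiplicative (ZMod 2) ≃* σ.ker := mulEquivOfCyclicCardEq (by rw [h2, hc])
      exact ⟨e.toMonoidHom, e.surjective⟩

end Cfsg.Agent.H40.Ru
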