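import Cfsg.Agent.H40.Ru.Word
import Cfsg.Agent.H40.Ru.Data
import Cfsg.Agent.H40.CoTwo.Pc

/-! Kernel checks of the Sylow data of the Rudvalis group. -/

set_option autoImplicit false
set_option Elab.async false
set_option maxRecDepth 100000

namespace Cfsg.Agent.H40.Ru

open Cfsg.Agent.H94.Mult Cfsg.Agent.H40.CoTwo

/-- An entry of a list of words. -/
def nth (L : List (List ℕ)) (i : ℕ) : List ℕ := L.getD i []

/-- The word of a normal form. -/
def twoNf (u : ℕ) : List ℕ := ((bitsOf twoCert.R.n u).map (nth twoGens)).flatten

/-- The checks of an inverted subgroup of order `l ^ 2` extended by an element of order `l`. -/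
def oddOK (l : ℕ) (gens : List (List ℕ)) (t s : List ℕ) (cj : List (List ℕ)) (w : List ℕ)
    (e : ℕ × ℕ) (ch : List (List ℕ)) : Bool :=
  eqW (t ++ t) [] &&
  ((List.range 2).all fun i =>
    eqW (List.replicate l (nth gens i)).flatten [] &&
    eqW (t ++ nth gens i ++ t) (List.replicate (l - 1) (nth gens i)).flatten &&
    (nth cj i).all (fun x => Nat.blt x 2) &&
    eqW (s ++ nth gens i) (((nth cj i).map (nth gens)).flatten ++ s)) &&
  eqW (nth gens 0 ++ nth gens 1) (nth gens 1 ++ nth gens 0) &&
  eqW (t ++ s) (s ++ t) &&
  eqW (List.replicate l s).flatten [] &&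
  eqW (w ++ nth gens 0) ((List.replicate e.1 (nth gens 0)).flatten ++ w) &&
  eqW (w ++ nth gens 1) ((List.replicate e.2 (nth gens 1)).flatten ++ w) &&
  moveW (nth gens 0) (nth ch 0) && keepW (nth gens 0) (nth ch 1) &&
  moveW (nth gens 1) (nth ch 1) && moveW s (nth ch 2)

theorem two_rules : twoCert.checkRules = true := by decide +kernel

theorem two_check_eqs : checkEqs twoCert = true := by decide +kernel

theorem two_layers : checkLayers twoCert = true := by decide +kernel

theorem two_len : (Nat.beq twoConjSq.length twoCert.sqEqs.length &&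
    Nat.beq twoConjCm.length twoFus.length && Nat.beq twoCert.R.n 14) = true := by decide +kernel

theorem two_sq : ((List.range twoCert.R.n).all fun j =>
    eqW (nth twoGens j ++ nth twoGens j) (twoNf (twoCert.R.sqRule j).1)) = true := by decide +kernel

theorem two_cm : ((List.range twoCert.R.n).all fun j => (List.range j).all fun i =>
    eqW (nth twoGens j ++ nth twoGens i)
      (nth twoGens i ++ nth twoGens j ++ twoNf (twoCert.R.cmRule j i).1)) = true := by decide +kernel

theorem two_fus : ((List.range twoCert.sqEqs.length).all fun k =>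
    eqW (nth twoConjSq k ++ twoNf (twoCert.sqEqs.getD k (0, 0)).1)
      (twoNf (twoCert.sqEqs.getD k (0, 0)).2 ++ nth twoConjSq k)) = true := by decide +kernel

theorem two_fus_pairs : ((List.range twoFus.length).all fun k =>
    let p := twoFus.getD k ((0, 0), (0, 0))
    eqW (nth twoConjCm k ++ twoNf p.1.1) (twoNf p.2.1 ++ nth twoConjCm k) &&
    eqW (nth twoConjCm k ++ twoNf p.1.2) (twoNf p.2.2 ++ nth twoConjCm k)) = true := by
  decide +kernel

theorem two_pair : (eqW (twoNf twoPair.1 ++ twoNf twoPair.1) [] &&
    eqW (twoNf twoPair.1 ++ twoNf twoPair.2) (twoNf twoPair.2 ++ twoNf twoPair.1)) = true := by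
  decide +kernel

theorem two_keep : ((List.range twoCert.R.n).all fun k => (List.range twoCert.R.n).all fun j =>
    Nat.ble j k || keepW (nth twoGens j) (nth twoChain k)) = true := by decide +kernel

theorem two_move : ((List.range twoCert.R.n).all fun k =>
    moveW (nth twoGens k) (nth twoChain k)) = true := by decide +kernel

theorem three_ok : oddOK 3 threeGens threeInv threeTop threeConj threeWit threeExp threeChain
    = true := by decide +kernel

theorem five_ok : oddOK 5 fiveGens fiveInv fiveTop fiveConj fiveWit fiveExp fiveChain = true := by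
  decide +kernel

end Cfsg.Agent.H40.Ru
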