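import Cfsg.Prelude.Def_Spor_Ru
import Cfsg.Prelude.Def_KGroupFacts

/-!
The derived subgroup of the lattice automorphism group maps onto the Rudvalis group as a stem
extension whose kernel contains the negation.
-/

set_option autoImplicit false

namespace Cfsg.Agent.H40.Ru

open Cfsg Cfsg.Spor
open scoped commutatorElement

/-- A central extension of a perfect group restricts to a stem extension of the derived subgroup. -/
theorem isStemExtension_commutator {G Q : Type*} [Group G] [Group Q] (π : G →* Q)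
    (hπ : Function.Surjective π) (hc : π.ker ≤ Subgroup.center G) (hQ : commutator Q = ⊤) :
    IsStemExtension (π.comp (commutator G).subtype) := by
  have hsurj : Function.Surjective (π.comp (commutator G).subtype) := fun q => by
    have h : q ∈ (commutator G).map π := by
      rw [commutator_def, Subgroup.map_commutator, Subgroup.map_top_of_surjective π hπ,
        ← commutator_def, hQ]
      exact Subgroup.mem_top q
    obtain ⟨g, hg, rfl⟩ := h
    exact ⟨⟨g, hg⟩, rfl⟩
  refine ⟨hsurj, fun x hx => Subgroup.mem_center_iff.2 fun y =>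
    Subtype.ext (Subgroup.mem_center_iff.1 (hc hx) y.1), fun x _ => ?_⟩
  have hgen : ∀ g : G, ∃ d ∈ commutator G, ∃ z ∈ Subgroup.center G, g = d * z := fun g => by
    obtain ⟨d, hd⟩ := hsurj (π g)
    exact ⟨d.1, d.2, d.1⁻¹ * g, hc (by
      rw [MonoidHom.mem_ker, map_mul, map_inv, show π d.1 = π g from hd, inv_mul_cancel]),
      (mul_inv_cancel_left _ _).symm⟩
  have hle : commutator G ≤ ⁅commutator G, commutator G⁆ := by
    nth_rewrite 1 [commutator_def]
    rw [Subgroup.commutator_le]
    intro g _ h _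
    obtain ⟨d, hd, z, hz, rfl⟩ := hgen g
    obtain ⟨e, he, w, hw, rfl⟩ := hgen h
    have c1 : ∀ y, y * z = z * y := Subgroup.mem_center_iff.1 hz
    have c2 : ∀ y, y * w = w * y := Subgroup.mem_center_iff.1 hw
    have h1 : d * z * (e * w) = d * e * (z * w) := by
      rw [mul_assoc d z, ← mul_assoc z e, ← c1 e, mul_assoc e z, ← mul_assoc d e]
    have h2 : e * w * (d * z) = e * d * (z * w) := by
      rw [mul_assoc e w, ← mul_assoc w d, ← c2 d, mul_assoc d w, ← mul_assoc e d, ← c1 w]
    have e1 : ⁅d * z, e * w⁆ = ⁅d, e⁆ := by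
      simp only [commutatorElement_def]
      rw [show d * z * (e * w) * (d * z)⁻¹ * (e * w)⁻¹ = d * z * (e * w) * (e * w * (d * z))⁻¹ by group,
        h1, h2]
      group
    rw [e1]
    exact Subgroup.commutator_mem_commutator hd he
  rw [← Subgroup.mem_map_iff_mem (commutator G).subtype_injective,
    Subgroup.map_subtype_commutator]
  exact hle x.2

/-- An isometry of the vectors commuting with the scalars restricts to the lattice. -/
noncomputable def liftIso (f : RuVec ≃ RuVec) (hadd : ∀ v w, f (v + w) = f v + f w)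
    (hI : ∀ v, f (gI • v) = gI • f v) (hN : ∀ v, ruNorm (f v) = ruNorm v)
    (hL : ∀ v ∈ ruLattice, f v ∈ ruLattice) (hL' : ∀ v ∈ ruLattice, f.symm v ∈ ruLattice) : fourRu :=
  ⟨{ toFun := fun v => ⟨f v, hL v v.2⟩
     invFun := fun v => ⟨f.symm v, hL' v v.2⟩
     left_inv := fun v => Subtype.ext (f.symm_apply_apply _)
     right_inv := fun v => Subtype.ext (f.apply_symm_apply _) },
    fun v w => Subtype.ext (hadd _ _), fun v => Subtype.ext (hI _), fun v => hN _⟩

theorem closed_of_mem {v : RuVec} (hv : v ∈ ruLattice) :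
    ruRj v ∈ ruLattice ∧ ruRk v ∈ ruLattice ∧ gI • v ∈ ruLattice := by
  rw [ruLattice, AddSubgroup.mem_sInf] at hv
  simp only [ruLattice, AddSubgroup.mem_sInf]
  exact ⟨fun L hL => (hL.2 v (hv L hL)).2.1, fun L hL => (hL.2 v (hv L hL)).2.2.1,
    fun L hL => (hL.2 v (hv L hL)).1⟩

theorem gI_sq : gI * gI = -1 := by decide

theorem rj_rj (v : RuVec) : ruRj (ruRj v) = -v := by
  funext ⟨n, t⟩
  fin_cases t <;> simp [ruRj, ← mul_assoc, gI_sq]

theorem rk_rk (v : RuVec) : ruRk (ruRk v) = -v := by
  funext ⟨n, t⟩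
  fin_cases t <;> simp [ruRk, ← mul_assoc, gI_sq]

theorem rj_rk (v : RuVec) : ruRj (ruRk v) = -ruRk (ruRj v) := by
  funext ⟨n, t⟩
  fin_cases t <;> simp [ruRj, ruRk, ← mul_assoc, gI_sq]

theorem rj_neg (v : RuVec) : ruRj (-v) = -ruRj v := by
  funext ⟨n, t⟩
  fin_cases t <;> simp [ruRj]

theorem rk_neg (v : RuVec) : ruRk (-v) = -ruRk v := by
  funext ⟨n, t⟩
  fin_cases t <;> simp [ruRk]

theorem norm_gI_mul (x : GaussianInt) : (gI * x).norm = x.norm := by
  rw [Zsqrtd.norm_mul]
  show (1 : ℤ) * _ = _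
  rw [one_mul]

theorem ruNorm_rj (v : RuVec) : ruNorm (ruRj v) = ruNorm v := by
  simp only [ruNorm, Fintype.sum_prod_type, Fin.sum_univ_four]
  refine Finset.sum_congr rfl fun n _ => ?_
  simp only [ruRj, norm_gI_mul, Zsqrtd.norm_neg]
  ring

theorem ruNorm_rk (v : RuVec) : ruNorm (ruRk v) = ruNorm v := by
  simp only [ruNorm, Fintype.sum_prod_type, Fin.sum_univ_four]
  refine Finset.sum_congr rfl fun n _ => ?_
  simp only [ruRk, norm_gI_mul, Zsqrtd.norm_neg]
  ring

/-- Right multiplication by `j`. -/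
noncomputable def jEl : fourRu :=
  liftIso { toFun := ruRj, invFun := fun v => -ruRj v,
            left_inv := fun v => by simp [rj_rj],
            right_inv := fun v => by simp [rj_neg, rj_rj] }
    (fun v w => by funext ⟨n, t⟩; fin_cases t <;> simp [ruRj, mul_add, neg_add, add_comm])
    (fun v => by funext ⟨n, t⟩; fin_cases t <;> simp [ruRj, Pi.smul_apply, smul_eq_mul])
    ruNorm_rj (fun v hv => (closed_of_mem hv).1)
    (fun v hv => neg_mem (closed_of_mem hv).1)

/-- Right multiplication by `k`. -/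
noncomputable def kEl : fourRu :=
  liftIso { toFun := ruRk, invFun := fun v => -ruRk v,
            left_inv := fun v => by simp [rk_rk],
            right_inv := fun v => by simp [rk_neg, rk_rk] }
    (fun v w => by funext ⟨n, t⟩; fin_cases t <;> simp [ruRk, mul_add, neg_add, add_comm])
    (fun v => by funext ⟨n, t⟩; fin_cases t <;> simp [ruRk, Pi.smul_apply, smul_eq_mul])
    ruNorm_rk (fun v hv => (closed_of_mem hv).2.1)
    (fun v hv => neg_mem (closed_of_mem hv).2.1)

theorem coe_jk (v : ruLattice) :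
    (((⁅jEl, kEl⁆ : fourRu) : Equiv.Perm ruLattice) v).1 = -v.1 := by
  simp only [commutatorElement_def, Subgroup.coe_mul, Subgroup.coe_inv, Equiv.Perm.mul_apply]
  show ruRj (ruRk (-ruRj (-ruRk v.1))) = _
  simp [rj_neg, rk_neg, rj_rk, rj_rj, rk_rk]

theorem jk_central : (⁅jEl, kEl⁆ : fourRu) ∈ Subgroup.center fourRu := by
  rw [Subgroup.mem_center_iff]
  intro f
  refine Subtype.ext (Equiv.ext fun v => ?_)
  have hneg : ∀ w : ruLattice, ((⁅jEl, kEl⁆ : fourRu) : Equiv.Perm ruLattice) w = -w :=
    fun w => Subtype.ext (coe_jk w)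
  simp only [Subgroup.coe_mul, Equiv.Perm.mul_apply, hneg]
  have hadd := f.2.1
  exact (AddMonoidHom.mk' _ hadd).map_neg v

theorem jk_ne_one : (⁅jEl, kEl⁆ : fourRu) ≠ 1 := by
  intro h
  have hm : ruTable.head (by simp [ruTable]) ∈ ruLattice := by
    rw [ruLattice, AddSubgroup.mem_sInf]
    exact fun L hL => hL.1 _ (List.head_mem _)
  have e := coe_jk ⟨_, hm⟩
  rw [h] at e
  have e2 := congrArg Zsqrtd.re (congrFun e (0, 0))
  simp [ruTable, ruOfArray] at e2

/-- The derived subgroup of the lattice automorphism group gives a stem extension of the Rudvalis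
group with nontrivial kernel. -/
theorem exists_stem (hQ : commutator Spor.Ru = ⊤) :
    ∃ τ : ↥(commutator fourRu) →* Spor.Ru, IsStemExtension τ ∧ τ.ker ≠ ⊥ := by
  refine ⟨_, isStemExtension_commutator (QuotientGroup.mk' (Subgroup.center fourRu))
    (QuotientGroup.mk'_surjective _) (QuotientGroup.ker_mk' _).le hQ, fun hb => ?_⟩
  let z : commutator fourRu :=
    ⟨⁅jEl, kEl⁆, by rw [commutator_def]; exact Subgroup.commutator_mem_commutator trivial trivial⟩
  have hz : z ∈ ((QuotientGroup.mk' (Subgroup.center fourRu)).comp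
      (commutator fourRu).subtype).ker := by
    rw [MonoidHom.mem_ker]
    exact (QuotientGroup.eq_one_iff _).2 jk_central
  rw [hb, Subgroup.mem_bot] at hz
  exact jk_ne_one (congrArg Subtype.val hz)

end Cfsg.Agent.H40.Ru
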