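import Cfsg.Agent.H40.Ru.Check
import Cfsg.Agent.H40.Co.KillInv

/-!
The Rudvalis group has no stem extension with kernel of order three or five: an inverted elementary
abelian subgroup of order `l ^ 2` extended by an element of order `l` commuting with the involution.
-/

set_option autoImplicit false

namespace Cfsg.Agent.H40.Ru

open Cfsg.Agent.PGroups.Ru Cfsg.Agent.Linear.Mult
open Cfsg.Agent.H40.Co (pow_le_card_closure cm_eq_one_of_power cm_eq_one_of_closure killed_inverted_extended)

attribute [local irreducible] el eqW keepW moveW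

/-- Elements sending the generators into the subgroup they generate normalise it. -/
theorem conj_closure {G : Type*} [Group G] [Finite G] {A S : Set G}
    (h : ∀ s ∈ S, ∀ a ∈ A, s * a * s⁻¹ ∈ Subgroup.closure A) :
    ∀ k ∈ Subgroup.closure S, ∀ a ∈ A, k * a * k⁻¹ ∈ Subgroup.closure A := by
  have hle : Subgroup.closure S ≤ Subgroup.normalizer (Subgroup.closure A : Set G) := by
    refine (Subgroup.closure_le _).2 fun s hs => ?_
    have hmap : (Subgroup.closure A).map (MulAut.conj s).toMonoidHom ≤ Subgroup.closure A := by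
      rw [MonoidHom.map_closure, Subgroup.closure_le]
      rintro _ ⟨a, ha, rfl⟩
      exact h s hs a ha
    have he := Subgroup.eq_of_le_of_card_ge hmap
      (Subgroup.card_map_of_injective (MulAut.conj s).injective).ge
    rw [SetLike.mem_coe, Subgroup.mem_normalizer_iff]
    intro a
    refine ⟨fun ha => hmap (Subgroup.mem_map_of_mem _ ha), fun ha => ?_⟩
    have ha' : s * a * s⁻¹ ∈ (Subgroup.closure A).map (MulAut.conj s).toMonoidHom := he.symm ▸ ha
    obtain ⟨b, hb, hbe⟩ := ha'
    rwa [← (MulAut.conj s).injective (a₁ := b) (a₂ := a) hbe]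
  intro k hk a ha
  exact (Subgroup.mem_normalizer_iff.1 (hle hk) a).1 (Subgroup.subset_closure ha)

theorem el_replicate_flatten (n : ℕ) (w : List ℕ) :
    el (List.replicate n w).flatten = el w ^ n := by
  rw [el_flatten, List.map_replicate, List.prod_replicate]

theorem noStem_odd {l : ℕ} (hl : l.Prime) (hl2 : l ≠ 2) {gens : List (List ℕ)} {t s : List ℕ}
    {cj : List (List ℕ)} {w : List ℕ} {e : ℕ × ℕ} {ch : List (List ℕ)}
    (h : oddOK l gens t s cj w e ch = true) (he : e.1 * e.2 % l ≠ 1)
    (hcard : ¬ l ^ 4 ∣ Nat.card autGrp) : NoStem l autGrp := by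
  haveI := Fact.mk hl
  simp only [oddOK, Bool.and_eq_true, List.all_eq_true, List.mem_range, Nat.blt_eq] at h
  obtain ⟨⟨⟨⟨⟨⟨⟨⟨⟨⟨htt, hg⟩, hab⟩, hts⟩, hsl⟩, hw0⟩, hw1⟩, hm0⟩, hk1⟩, hm1⟩, hms⟩ := h
  set a : ℕ → autGrp := fun i => el (nth gens i) with ha
  have htt' : el t * el t = 1 := by
    have := el_eq htt
    rwa [el_append, el_nil] at this
  have hpow : ∀ i < 2, a i ^ l = 1 := fun i hi => by
    have := el_eq (hg i hi).1.1.1
    rwa [el_replicate_flatten, el_nil] at this
  have hinv : ∀ i < 2, el t * a i * (el t)⁻¹ = (a i)⁻¹ := fun i hi => by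
    have := el_eq (hg i hi).1.1.2
    rw [el_replicate_flatten, el_append, el_append] at this
    rw [inv_eq_of_mul_eq_one_right htt', this]
    refine eq_inv_of_mul_eq_one_left ?_
    rw [← pow_succ, Nat.sub_add_cancel hl.one_le]
    exact hpow i hi
  have hc01 : Commute (a 0) (a 1) := by
    have := el_eq hab
    rwa [el_append, el_append] at this
  have hts' : Commute (el t) (el s) := by
    have := el_eq hts
    rwa [el_append, el_append] at this
  have hs : el s ^ l = 1 := by
    have := el_eq hsl
    rwa [el_replicate_flatten, el_nil] at this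
  have hW : ∀ i, i < 2 → ∀ k, eqW (w ++ nth gens i) ((List.replicate k (nth gens i)).flatten ++ w)
      = true → el w * a i * (el w)⁻¹ = a i ^ k := by
    intro i _ k hk
    have := el_eq hk
    rw [el_append, el_append, el_replicate_flatten] at this
    rw [mul_inv_eq_iff_eq_mul]
    exact this
  refine noStem_of_killed hl fun Γ _ _ E => ?_
  set A : Set autGrp := a '' {i | i < 2} with hA
  have h01 : E.cm (a 0) (a 1) = 1 :=
    cm_eq_one_of_power E hc01 (hW 0 (by norm_num) _ hw0) (hW 1 (by norm_num) _ hw1) he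
  have hAA : ∀ x ∈ A, ∀ y ∈ A, E.cm x y = 1 := by
    rintro _ ⟨i, hi, rfl⟩ _ ⟨j, hj, rfl⟩
    change i < 2 at hi
    change j < 2 at hj
    interval_cases i <;> interval_cases j
    · exact E.cm_self _
    · exact h01
    · exact E.cm_symm h01
    · exact E.cm_self _
  have hnorm := conj_closure (S := {el s}) (A := A) (by
    rintro _ rfl _ ⟨i, hi, rfl⟩
    have := el_eq (hg i hi).2
    rw [el_append, el_append, el_flatten, List.map_map] at this
    rw [mul_inv_eq_iff_eq_mul.2 this]
    refine Subgroup.list_prod_mem _ fun x hx => ?_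
    obtain ⟨j, hj, rfl⟩ := List.mem_map.1 hx
    exact Subgroup.subset_closure ⟨j, (hg i hi).1.2 j hj, rfl⟩)
  rw [← Subgroup.zpowers_eq_closure] at hnorm
  have hot : orderOf (el t) ∣ 2 := orderOf_dvd_of_pow_eq_one (by rw [pow_two, htt'])
  have hTK : ∀ k ∈ Subgroup.zpowers (el s), Commute (el t) k ∧ E.cm (el t) k = 1 := by
    intro k hk
    rw [Subgroup.zpowers_eq_closure] at hk
    refine cm_eq_one_of_closure E (S := {el s}) ?_ k hk
    rintro x rfl
    refine ⟨hts', E.cm_eq_one_of_coprime hts' ?_⟩
    exact Nat.Coprime.coprime_dvd_left hot (Nat.Coprime.coprime_dvd_right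
      (orderOf_dvd_of_pow_eq_one hs) ((Nat.coprime_primes Nat.prime_two hl).2 (Ne.symm hl2)))
  obtain ⟨hk, hc⟩ := killed_inverted_extended E hl2 A (Subgroup.zpowers (el s)) (el t)
    (by rintro _ ⟨i, hi, rfl⟩; exact hinv i hi) (by rintro _ ⟨i, hi, rfl⟩; exact hpow i hi)
    hAA (LExt.killed_zpowers _) hTK hnorm
  refine ⟨_, hk, fun hd => hcard ?_⟩
  have h3 : l ^ 2 ∣ Nat.card ↥(Subgroup.closure A) := by
    refine pow_le_card_closure l hl a 2 (fun i hi j hj => ?_) hpow fun i hi hmem => ?_
    · interval_cases i <;> interval_cases j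
      · exact Commute.refl _
      · exact hc01
      · exact hc01.symm
      · exact Commute.refl _
    · interval_cases i
      · have he0 : a '' {j | j < 0} = ∅ := by simp
        rw [he0, Subgroup.closure_empty, Subgroup.mem_bot] at hmem
        exact el_ne_one hm0 hmem
      · refine notMem_keeper hm1 ((Subgroup.closure_le _).2 ?_ hmem)
        rintro _ ⟨j, hj, rfl⟩
        change j < 1 at hj
        obtain rfl : j = 0 := by omega
        exact mem_keeper hk1
  have hcc : l ^ 3 ∣ Nat.card ↥(Subgroup.closure A ⊔ Subgroup.zpowers (el s) : Subgroup autGrp) := by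
    rw [hc, Nat.card_zpowers, orderOf_eq_prime hs (el_ne_one hms), pow_succ]
    exact Nat.mul_dvd_mul h3 dvd_rfl
  have := Nat.mul_dvd_mul hcc hd
  rwa [Subgroup.card_mul_index, ← pow_succ] at this

theorem noStem_three : NoStem 3 autGrp :=
  noStem_odd (by norm_num) (by norm_num) three_ok (by decide) (by rw [card_aut]; norm_num)

theorem noStem_five : NoStem 5 autGrp :=
  noStem_odd (by norm_num) (by norm_num) five_ok (by decide) (by rw [card_aut]; norm_num)

end Cfsg.Agent.H40.Ru
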