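import Cfsg.Agent.H40.Ru.Two
import Cfsg.Agent.H40.Ru.Odd
import Cfsg.Agent.H40.Ru.Bound
import Cfsg.Agent.H40.Ru.Lower
import Cfsg.Agent.H34.SylCert.Sound

/-!
The Schur multiplier of the Rudvalis group: at most two for the group on 4060 points, and exactly
two once the lattice automorphism group modulo its centre is identified with that group.
-/

set_option autoImplicit false

namespace Cfsg.Agent.H40.Ru

open Cfsg Cfsg.Agent.PGroups.Ru Cfsg.Agent.Linear.Mult
open scoped commutatorElement

theorem noStem_odd_prime {l : ℕ} (hl : l.Prime) (h2 : l ≠ 2) : NoStem l autGrp := by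
  by_cases h3 : l = 3
  · exact h3 ▸ noStem_three
  by_cases h5 : l = 5
  · exact h5 ▸ noStem_five
  refine H34.SylCert.noStem_of_not_sq_dvd hl fun hd => ?_
  rw [card_aut, show 145926144000 = (2 ^ 14 * (3 ^ 3 * 5 ^ 3)) * (7 * 13 * 29) by norm_num] at hd
  have hc : ∀ p : ℕ, p.Prime → l ≠ p → ∀ a, Nat.Coprime (l ^ 2) (p ^ a) := fun p hp h a =>
    Nat.Coprime.pow 2 a ((Nat.coprime_primes hl hp).2 h)
  have hd' := ((hc 2 Nat.prime_two h2 14).mul_right ((hc 3 Nat.prime_three h3 3).mul_right
    (hc 5 (by norm_num) h5 3))).dvd_of_dvd_mul_left hd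
  have hle : l ≤ 52 := by have := Nat.le_of_dvd (by norm_num) hd'; nlinarith
  have := hl.two_le
  interval_cases l <;> revert hd' <;> norm_num

theorem card_ker_le_autGrp {Γ : Type} [Group Γ] [Finite Γ] (σ : Γ →* autGrp)
    (hσ : IsStemExtension σ) : Nat.card σ.ker ≤ 2 :=
  card_ker_le_two (fun _ hl h2 => noStem_odd_prime hl h2) pair_spec.1 pair_spec.2
    (fun _ _ _ E h => killed_two E h) σ hσ

theorem commutator_aut : commutator autGrp = ⊤ := by
  haveI := aut_isSimple
  rcases (inferInstance : (commutator autGrp).Normal).eq_bot_or_eq_top with h | h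
  · exfalso
    have hab : ∀ x y : autGrp, Commute x y := fun x y => by
      have hm : ⁅x, y⁆ ∈ commutator autGrp := by
        rw [commutator_def]; exact Subgroup.commutator_mem_commutator trivial trivial
      rw [h, Subgroup.mem_bot] at hm
      exact commutatorElement_eq_one_iff_commute.1 hm
    let _ : CommGroup autGrp := { (inferInstance : Group autGrp) with mul_comm := fun x y => hab x y }
    have hp : (Nat.card autGrp).Prime := IsSimpleGroup.prime_card
    rw [card_aut] at hp
    norm_num at hp
  · exact h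

/-- The multiplier, from the identification with the group on 4060 points. -/
theorem hasCyclicSchurMultiplier_ru [Finite Spor.fourRu] (e : Spor.Ru ≃* autGrp) :
    HasCyclicSchurMultiplier Spor.Ru 2 := by
  have hQ : commutator Spor.Ru = ⊤ := by
    rw [commutator_def, ← Subgroup.map_top_of_surjective e.symm.toMonoidHom e.symm.surjective,
      ← Subgroup.map_commutator, ← commutator_def, commutator_aut]
  obtain ⟨τ, hτ, hne⟩ := exists_stem hQ
  refine hasCyclicSchurMultiplier_two (fun Γ _ _ σ hσ => ?_) τ hτ hne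
  have hk : (e.toMonoidHom.comp σ).ker = σ.ker := by ext x; simp
  have hs : IsStemExtension (e.toMonoidHom.comp σ) :=
    ⟨e.surjective.comp hσ.1, hk ▸ hσ.2.1, hk ▸ hσ.2.2⟩
  exact hk ▸ card_ker_le_autGrp (e.toMonoidHom.comp σ) hs

end Cfsg.Agent.H40.Ru
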