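import Cfsg.Agent.H40.Ru.Check

/-!
The Rudvalis group at the prime 2: in an extension with kernel of order two in which a certain
commuting pair has commuting lifts, the kernel is not a commutator in the preimage of a Sylow
2-subgroup.
-/

set_option autoImplicit false

namespace Cfsg.Agent.H40.Ru

open Cfsg.Agent.PGroups.Ru hiding bitsOf
open Cfsg.Agent.Linear.Mult Cfsg.Agent.H94.Mult Cfsg.Agent.H40.CoTwo

attribute [local irreducible] el eqW keepW moveW twoGens twoConjSq twoConjCm twoChain twoCert twoFus twoPair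

theorem el_twoNf (u : ℕ) :
    el (twoNf u) = ((bitsOf twoCert.R.n u).map fun k => el (nth twoGens k)).prod := by
  rw [twoNf, el_flatten, List.map_map]
  rfl

/-- The model of the Sylow 2-subgroup. -/
def twoModel : Model twoCert.R autGrp where
  G k := el (nth twoGens k)
  V _ := 1
  V_zero := rfl
  V_xor _ _ := (one_mul _).symm
  V_central _ x := by rw [one_mul, mul_one]
  sq_rule i hi := by
    have h := el_eq (List.all_eq_true.1 two_sq i (List.mem_range.2 hi))
    rw [el_append, el_twoNf] at h
    rw [mul_one]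
    exact h
  cm_rule i j hij hj := by
    have h := two_cm
    simp only [List.all_eq_true, List.mem_range] at h
    have e := el_eq (h j hj i hij)
    rw [el_append, el_append, el_append, el_twoNf] at e
    rw [mul_one]
    exact e

theorem twoModel_nf (u : ℕ) : twoModel.nf u = el (twoNf u) := (el_twoNf u).symm

/-- The first element of the pair. -/
def pairA : autGrp := el (twoNf twoPair.1)

/-- The second element of the pair. -/
def pairB : autGrp := el (twoNf twoPair.2)

theorem pair_spec : pairA * pairA = 1 ∧ Commute pairA pairB := by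
  have h := two_pair
  simp only [Bool.and_eq_true] at h
  refine ⟨?_, ?_⟩
  · have e := el_eq h.1
    rwa [el_append, el_nil] at e
  · have e := el_eq h.2
    rwa [el_append, el_append] at e

theorem conj_nf {g : List ℕ} {u w : ℕ} (h : eqW (g ++ twoNf u) (twoNf w ++ g) = true) :
    el g * twoModel.nf u * (el g)⁻¹ = twoModel.nf w := by
  have e := el_eq h
  rw [el_append, el_append] at e
  rw [twoModel_nf, twoModel_nf, mul_inv_eq_iff_eq_mul]
  exact e

theorem pow_le_card_derSub : ∀ k d, d + k = twoCert.R.n →
    2 ^ k ≤ Nat.card ↥(twoModel.derSub d) := by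
  have hk' := two_keep
  have hm' := two_move
  simp only [List.all_eq_true, List.mem_range, Bool.or_eq_true, Nat.ble_eq] at hk' hm'
  intro k
  induction k with
  | zero => exact fun d _ => Nat.card_pos
  | succ k ih =>
    intro d hd
    have hdn : d < twoCert.R.n := by omega
    have ih' := ih (d + 1) (by omega)
    have hle : twoModel.derSub (d + 1) ≤ twoModel.derSub d := by
      refine Subgroup.closure_mono ?_
      rintro x ⟨i, h1, h2, h3⟩
      exact ⟨i, by omega, h2, h3⟩
    have hnot : el (nth twoGens d) ∉ twoModel.derSub (d + 1) := by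
      intro hmem
      refine notMem_keeper (hm' d hdn) ((Subgroup.closure_le _).2 ?_ hmem)
      rintro _ ⟨j, hj, hjn, rfl⟩
      exact mem_keeper ((hk' d hdn j hjn).resolve_left (by omega))
    have hne : twoModel.derSub (d + 1) ≠ twoModel.derSub d := fun e =>
      hnot (e ▸ twoModel.G_mem_derSub le_rfl hdn)
    obtain ⟨c, hc⟩ := Subgroup.card_dvd_of_le hle
    have hc2 : 2 ≤ c := by
      by_contra hcl
      interval_cases c
      · exact absurd hc (by simpa using (Nat.card_pos (α := ↥(twoModel.derSub d))).ne')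
      · exact hne (Subgroup.eq_of_le_of_card_ge hle (by rw [hc, mul_one]))
    rw [hc, pow_succ]
    exact Nat.mul_le_mul ih' hc2

theorem killed_two {Γ : Type} [Group Γ] [Finite Γ] (E : LExt 2 Γ autGrp)
    (hab : E.cm pairA pairB = 1) :
    ∃ H : Subgroup autGrp, E.Killed H ∧ ¬ 2 ∣ H.index := by
  have hlen := two_len
  simp only [Bool.and_eq_true] at hlen
  obtain ⟨⟨hlsq, hlcm⟩, hn⟩ := hlen
  replace hn : twoCert.R.n = 14 := Nat.eq_of_beq_eq_true hn
  have h1 : ∀ p ∈ twoCert.sqEqs, ∃ g : autGrp,
      g * twoModel.nf p.1 * g⁻¹ = twoModel.nf p.2 := by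
    intro p hp
    obtain ⟨k, hk, rfl⟩ := List.getElem_of_mem hp
    have h := List.all_eq_true.1 two_fus k (List.mem_range.2 hk)
    rw [List.getD_eq_getElem _ _ hk] at h
    exact ⟨_, conj_nf h⟩
  have h2 : ∀ p ∈ twoCert.cmEqs, (∃ g : autGrp,
      g * twoModel.nf p.1.1 * g⁻¹ = twoModel.nf p.2.1 ∧
      g * twoModel.nf p.1.2 * g⁻¹ = twoModel.nf p.2.2) ∨
      (p.2 = (0, 0) ∧ E.cm (twoModel.nf p.1.1) (twoModel.nf p.1.2) = 1) := by
    intro p hp
    rw [show twoCert.cmEqs = twoFus ++ [(twoPair, (0, 0))] from by with_unfolding_all rfl,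
      List.mem_append, List.mem_singleton] at hp
    rcases hp with hp | rfl
    · obtain ⟨k, hk, rfl⟩ := List.getElem_of_mem hp
      have h := List.all_eq_true.1 two_fus_pairs k (List.mem_range.2 hk)
      simp only [List.getD_eq_getElem _ _ hk, Bool.and_eq_true] at h
      exact Or.inl ⟨_, conj_nf h.1, conj_nf h.2⟩
    · exact Or.inr ⟨rfl, by rw [twoModel_nf, twoModel_nf]; exact hab⟩
  have hgrp : twoModel.derSub 0 ≤ twoCert.grp twoModel := by
    refine Subgroup.closure_mono ?_
    rintro x ⟨i, -, h2, h3⟩
    exact ⟨i, h2, h3⟩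
  obtain ⟨hk, hc⟩ := killed_layered_cm twoCert E twoModel (fun _ => rfl) two_rules two_check_eqs
    two_layers h1 h2
    ((pow_le_card_derSub twoCert.R.n 0 (by omega)).trans (Subgroup.card_le_of_le hgrp))
  refine ⟨_, hk, fun hd => ?_⟩
  have h4 : 2 ^ 14 ∣ Nat.card ↥(twoCert.grp twoModel) := by rw [hc, hn]
  have := Nat.mul_dvd_mul h4 hd
  rw [Subgroup.card_mul_index, card_aut] at this
  norm_num at this

end Cfsg.Agent.H40.Ru
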