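import Cfsg.Agent.PGroups.RuPermGroup

/-!
Words in the generators of the Rudvalis group on 4060 points and their inverses. An element is
determined by the images of four points, so equations of words are checked on four points.
-/

set_option autoImplicit false

namespace Cfsg.Agent.H40.Ru

open Cfsg.Agent.PGroups.Ru
open scoped Pointwise

/-- The table of a letter: a generator or, from `9` on, an inverse. -/
def tab (k : ℕ) : ℕ := if k < 9 then fwd k else bwd ((k - 9) % 9)

/-- The element of a letter. -/
def letG (k : ℕ) : autGrp :=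
  if h : k < 9 then ⟨perm k, perm_mem_aut h⟩
  else ⟨(perm ((k - 9) % 9))⁻¹, inv_mem (perm_mem_aut (Nat.mod_lt _ (by norm_num)))⟩

/-- Image of a point under a word. -/
def run : List ℕ → ℕ → ℕ
  | [], j => j
  | k :: w, j => tget (tab k) (run w j)

/-- The element of a word. -/
def el (w : List ℕ) : autGrp := (w.map letG).prod

/-- The points determining an element. -/
def base : List ℕ := [0, 4059, 4024, 3674]

/-- Two words agree on the base. -/
def eqW (v w : List ℕ) : Bool := base.all fun a => Nat.beq (run v a) (run w a)

/-- A word keeps a set of points. -/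
def keepW (w : List ℕ) (S : List ℕ) : Bool :=
  S.all fun a => Nat.blt a 4060 && S.contains (run w a)

/-- A word moves the first point of a set out of it. -/
def moveW (w : List ℕ) : List ℕ → Bool
  | [] => false
  | a :: S => Nat.blt a 4060 && !(a :: S).contains (run w a)

theorem el_nil : el [] = 1 := rfl

theorem el_cons (k : ℕ) (w : List ℕ) : el (k :: w) = letG k * el w := by simp [el]

theorem el_append (v w : List ℕ) : el (v ++ w) = el v * el w := by simp [el]

theorem el_flatten (L : List (List ℕ)) : el L.flatten = (L.map el).prod := by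
  induction L with
  | nil => rfl
  | cons a r ih => rw [List.flatten_cons, el_append, ih, List.map_cons, List.prod_cons]

theorem letG_val (k : ℕ) (j : Fin 4060) :
    ((letG k : Equiv.Perm (Fin 4060)) j).1 = tget (tab k) j.1 := by
  by_cases h : k < 9
  · simp only [letG, tab, dif_pos h, if_pos h]
    exact perm_val h j
  · simp only [letG, tab, dif_neg h, if_neg h]
    exact perm_inv_val (Nat.mod_lt _ (by norm_num)) j

theorem run_eq : ∀ (w : List ℕ) (j : Fin 4060),
    ((el w : Equiv.Perm (Fin 4060)) j).1 = run w j.1
  | [], _ => rfl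
  | k :: w, j => by
    rw [el_cons, Subgroup.coe_mul, Equiv.Perm.mul_apply, letG_val, run_eq w]
    rfl

theorem el_fp (w : List ℕ) {a : ℕ} (ha : a < 4060) :
    ((el w : Equiv.Perm (Fin 4060)) (fp a)).1 = run w a := by
  rw [run_eq, fp_val ha]

/-- An element of the automorphism group is determined by four points. -/
theorem ext_base {g h : autGrp}
    (e : ∀ a ∈ base, (g : Equiv.Perm (Fin 4060)) (fp a) = (h : Equiv.Perm (Fin 4060)) (fp a)) :
    g = h := by
  have hz : ∀ a ∈ base, ((h⁻¹ * g : autGrp) : Equiv.Perm (Fin 4060)) (fp a) = fp a := fun a ha => by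
    rw [Subgroup.coe_mul, Subgroup.coe_inv, Equiv.Perm.mul_apply, e a ha, Equiv.Perm.coe_inv, Equiv.symm_apply_apply]
  exact (inv_mul_eq_one.1 (Subtype.ext (eq_one_of_fix4
    ⟨⟨⟨(h⁻¹ * g).2, hz 0 (by simp [base])⟩, hz 4059 (by simp [base])⟩, hz 4024 (by simp [base])⟩
    (hz 3674 (by simp [base]))))).symm

theorem el_eq {v w : List ℕ} (h : eqW v w = true) : el v = el w := by
  simp only [eqW, List.all_eq_true] at h
  refine ext_base fun a ha => Fin.ext ?_
  have hlt : a < 4060 := by
    simp only [base, List.mem_cons, List.not_mem_nil, or_false] at ha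
    omega
  rw [el_fp v hlt, el_fp w hlt]
  exact Nat.eq_of_beq_eq_true (h a ha)

/-- The elements keeping a set of points. -/
def keeper (S : List ℕ) : Subgroup autGrp :=
  (MulAction.stabilizer (Equiv.Perm (Fin 4060)) {x : Fin 4060 | x.1 ∈ S}).comap autGrp.subtype

theorem mem_keeper {w S : List ℕ} (h : keepW w S = true) : el w ∈ keeper S := by
  simp only [keepW, List.all_eq_true, Bool.and_eq_true, List.contains_iff_mem] at h
  refine MulAction.mem_stabilizer_iff.2 (Set.eq_of_subset_of_ncard_le ?_ ?_ (Set.toFinite _))
  · rintro _ ⟨x, hx, rfl⟩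
    show ((el w : Equiv.Perm (Fin 4060)) x).1 ∈ S
    rw [run_eq]
    exact (h _ hx).2
  · exact (Set.ncard_image_of_injective _
      (MulAction.injective (el w : Equiv.Perm (Fin 4060)))).ge

theorem notMem_keeper {w S : List ℕ} (h : moveW w S = true) : el w ∉ keeper S := by
  cases S with
  | nil => simp [moveW] at h
  | cons a S =>
    simp only [moveW, Bool.and_eq_true, Bool.not_eq_true', Nat.blt_eq] at h
    intro hm
    have h1 : (el w : Equiv.Perm (Fin 4060)) • fp a ∈
        ({x : Fin 4060 | x.1 ∈ a :: S} : Set (Fin 4060)) := by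
      rw [← MulAction.mem_stabilizer_iff.1 hm]
      exact Set.smul_mem_smul_set (show (fp a).1 ∈ a :: S by rw [fp_val h.1]; exact List.mem_cons_self)
    rw [Set.mem_setOf_eq, Equiv.Perm.smul_def, el_fp w h.1, ← List.contains_iff_mem, h.2] at h1
    simp at h1

/-- A word moving a point is not the identity. -/
theorem el_ne_one {w S : List ℕ} (h : moveW w S = true) : el w ≠ 1 := fun e =>
  notMem_keeper h (e ▸ one_mem _)

end Cfsg.Agent.H40.Ru
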